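import Cfsg.Agent.Lib.FT.Short.BigBound

/-! The arithmetic of step A3 lives in `Short/BigBound`. -/
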